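import Groth.Agent.Intersect.Pos
import Groth.Agent.Nakai.ClMul
import Groth.Agent.TMul.AmpleBasis
import Groth.Agent.TMul.GlobGen
import Groth.Agent.QC.Coherent
import Groth.Agent.Devissage.Core
import Groth.Agent.CohFinite.Tensor

/-!
Sections of twists through the generic points of the support, and the pieces they cut out.
-/

set_option autoImplicit false
set_option linter.style.haveILetI false
set_option backward.isDefEq.respectTransparency false
set_option backward.isDefEq.respectTransparency.types false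
set_option maxHeartbeats 1000000

universe u

open CategoryTheory CategoryTheory.Limits AlgebraicGeometry TopologicalSpace MonoidalCategory

noncomputable section

namespace Groth.Agent.CohBound

variable {X S : Scheme.{u}}

/-- No chain of `d + 1` points in the support over `η`. -/
def NoChain (f : X ⟶ S) (η : S) (F : X.Modules) (d : ℕ) : Prop :=
  ∀ c : Fin (d + 1) → X, (∀ i, c i ∈ CohB1.support F ∧ f.base (c i) = η) →
    (∀ i j, i < j → c j ⤳ c i ∧ c i ≠ c j) → False

theorem noChain_of_support_subset {f : X ⟶ S} {η : S} {F G : X.Modules} {d : ℕ}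
    (h : CohB1.support G ⊆ CohB1.support F) (hF : NoChain f η F d) : NoChain f η G d :=
  fun c hc hcc => hF c (fun i => ⟨h (hc i).1, (hc i).2⟩) hcc

/-- A finite set of points of a closed set generalising all of its points. -/
theorem exists_max_points [IsNoetherian X] {B : Set X} (hB : IsClosed B) :
    ∃ Z : Set X, Z.Finite ∧ Z ⊆ B ∧ ∀ x ∈ B, ∃ w ∈ Z, w ⤳ x := by
  haveI : NoetherianSpace X := inferInstance
  haveI : NoetherianSpace B := hB.isClosedEmbedding_subtypeVal.isInducing.noetherianSpace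
  haveI : QuasiSober B := hB.isClosedEmbedding_subtypeVal.quasiSober
  haveI : Finite (irreducibleComponents B) := NoetherianSpace.finite_irreducibleComponents.to_subtype
  refine ⟨Set.range fun W : irreducibleComponents B => ((genericPoints.ofComponent W).1 : X),
    Set.finite_range _, ?_, fun x hx => ?_⟩
  · rintro _ ⟨W, rfl⟩
    exact (genericPoints.ofComponent W).1.2
  · let W : irreducibleComponents B := ⟨irreducibleComponent (⟨x, hx⟩ : B), irreducibleComponent_mem_irreducibleComponents _⟩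
    refine ⟨_, ⟨W, rfl⟩, ?_⟩
    have h1 : ((genericPoints.ofComponent W).1 : B) ⤳ (⟨x, hx⟩ : B) := by
      refine specializes_iff_mem_closure.2 ?_
      have hgp := genericPoints.isGenericPoint (genericPoints.ofComponent W)
      rw [genericPoints.component_ofComponent W] at hgp
      rw [hgp.def]
      exact mem_irreducibleComponent
    exact (subtype_specializes_iff _ _).1 h1

/-- Removing the maximal points drops the length of chains over the generic point. -/
theorem noChain_succ {f : X ⟶ S} {η : S} (hη : ∀ t : S, η ⤳ t) {F G : X.Modules} {d : ℕ} {Z : Set X}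
    (hGF : CohB1.support G ⊆ CohB1.support F) {U : X.Opens} (hU : ∀ x ∈ CohB1.support G, x ∉ U)
    (hZ : Z ⊆ CohB1.support F) (hZU : Z ⊆ U) (hgen : ∀ x ∈ CohB1.support F, ∃ w ∈ Z, w ⤳ x)
    (hF : NoChain f η F (d + 1)) : NoChain f η G d := by
  intro c hc hcc
  obtain ⟨w, hwZ, hw⟩ := hgen _ (hGF (hc (Fin.last d)).1)
  have hwη : f.base w = η :=
    ((hη _).antisymm ((hc (Fin.last d)).2 ▸ hw.map f.continuous)).eq.symm
  have hne : ∀ i, c i ≠ w := fun i e => hU _ (hc i).1 (e ▸ hZU hwZ)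
  have hspec : ∀ i, w ⤳ c i := fun i => by
    rcases (Fin.le_last i).lt_or_eq with h | h
    · exact hw.trans (hcc _ _ h).1
    · rw [h]; exact hw
  refine hF (Fin.snoc c w) (fun i => ?_) fun i j hij => ?_
  · refine Fin.lastCases ?_ (fun i => ?_) i
    · rw [Fin.snoc_last]; exact ⟨hZ hwZ, hwη⟩
    · rw [Fin.snoc_castSucc]; exact ⟨hGF (hc i).1, (hc i).2⟩
  · revert hij
    refine Fin.lastCases ?_ (fun i => ?_) i
    · intro hij; exact absurd hij (not_lt.2 (Fin.le_last _))
    · refine Fin.lastCases ?_ (fun j => ?_) j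
      · intro _; rw [Fin.snoc_castSucc, Fin.snoc_last]; exact ⟨hspec i, hne i⟩
      · intro hij; rw [Fin.snoc_castSucc, Fin.snoc_castSucc]
        exact hcc i j (Fin.castSucc_lt_castSucc_iff.1 hij)

/-- The two short exact sequences of a map. -/
theorem exists_two_seq [IsNoetherian X] {F G : X.Modules} (hF : Coh.IsCoh F) (hG : Coh.IsCoh G) (φ : F ⟶ G) :
    ∃ (T₁ T₂ : ShortComplex X.Modules), T₁.ShortExact ∧ T₂.ShortExact ∧
      Nonempty (T₁.X₂ ≅ F) ∧ Nonempty (T₂.X₂ ≅ G) ∧ Nonempty (T₁.X₃ ≅ T₂.X₁) ∧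
      Coh.IsCoh T₁.X₁ ∧ Coh.IsCoh T₁.X₃ ∧ Coh.IsCoh T₂.X₃ ∧
      CohB1.support T₁.X₁ ⊆ CohB1.support F ∧ CohB1.support T₂.X₃ ⊆ CohB1.support G ∧
      ∀ x, IsIso ((DerSch.stalkFunctor X x).map φ) → x ∉ CohB1.support T₁.X₁ ∧ x ∉ CohB1.support T₂.X₃ := by
  let j : Abelian.coimage φ ⟶ G := Abelian.factorThruCoimage φ
  have hK : Coh.IsCoh (kernel φ) := QC.isCoh_kernel hF hG.1 φ
  have hI : Coh.IsCoh (Abelian.coimage φ) := QC.isCoh_cokernel hK.1 hF (kernel.ι φ)
  have hC : Coh.IsCoh (cokernel j) := QC.isCoh_cokernel hI.1 hG j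
  refine ⟨ShortComplex.mk (kernel.ι φ) (cokernel.π _) (cokernel.condition _), ShortComplex.mk j (cokernel.π j) (cokernel.condition j),
    Devissage.cokSeq_shortExact _, Devissage.cokSeq_shortExact _, ⟨Iso.refl _⟩, ⟨Iso.refl _⟩, ⟨Iso.refl _⟩, hK, hI, hC,
    fun x hx h => hx ?_, fun x hx h => hx ?_, fun x hx => ?_⟩
  · haveI : Subsingleton (F.presheaf.stalk x) := h
    exact (WeakAssLib.stalkHom_injective (kernel.ι φ) x).subsingleton
  · haveI : Subsingleton ↑((DerSch.stalkFunctor X x).obj G) := h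
    exact ((ModuleCat.epi_iff_surjective _).1 (Functor.map_epi (DerSch.stalkFunctor X x) (cokernel.π j))).subsingleton
  · haveI := hx
    have hbij := ConcreteCategory.bijective_of_isIso ((DerSch.stalkFunctor X x).map φ)
    refine ⟨fun h => h ?_, fun h => h ?_⟩
    · refine subsingleton_of_forall_eq 0 fun m => WeakAssLib.stalkHom_injective (kernel.ι φ) x ?_
      rw [map_zero]
      refine hbij.1 ?_
      rw [map_zero]
      show WeakAssLib.stalkHom φ x (WeakAssLib.stalkHom (kernel.ι φ) x m) = 0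
      rw [← Devissage.stalkHom_comp, kernel.condition, Devissage.stalkHom_zero]
    · refine subsingleton_of_forall_eq 0 fun m => ?_
      obtain ⟨g, rfl⟩ := (ModuleCat.epi_iff_surjective _).1 (Functor.map_epi (DerSch.stalkFunctor X x) (cokernel.π j)) m
      obtain ⟨p, hp⟩ := hbij.2 g
      have hφ : φ ≫ cokernel.π j = 0 := by
        have hc : Abelian.coimage.π φ ≫ j ≫ cokernel.π j = 0 := by rw [cokernel.condition, comp_zero]
        rwa [← Category.assoc, Abelian.coimage.fac φ] at hc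
      rw [← hp]
      show WeakAssLib.stalkHom (cokernel.π j) x (WeakAssLib.stalkHom φ x p) = 0
      rw [← Devissage.stalkHom_comp, hφ, Devissage.stalkHom_zero]

/-- The unit for tensoring on the right. -/
def unitR (F : X.Modules) : ((KFlat.schB X).obj F).obj (Coh.structureModule X) ≅ F :=
  TMul.commIso _ _ ≪≫ TMul.leftUnitIso _

/-- Multiplication by a section. -/
def mulSec (F : X.Modules) {M : X.Modules} (t : Coh.structureModule X ⟶ M) : F ⟶ ((KFlat.schB X).obj F).obj M :=
  (unitR F).inv ≫ ((KFlat.schB X).obj F).map t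

theorem isIso_stalk_mulSec (F : X.Modules) {M : X.Modules} (t : Coh.structureModule X ⟶ M) {x : X}
    (hx : x ∈ CohB1.genLocus M t) : IsIso ((DerSch.stalkFunctor X x).map (mulSec F t)) := by
  let φ := ((KFlat.schB X).obj F).map t
  haveI := Intersect.isIso_stalk_of_mem_genLocus t hx
  haveI : IsIso ((KFlat.stTensorIso F (Coh.structureModule X) x).hom ≫
      (DerSch.stalkFunctor X x).map (((KFlat.schB X).map (𝟙 F)).app _ ≫ φ)) := by
    rw [← KFlat.stTensorIso_natural (𝟙 F) t x]
    infer_instance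
  haveI h1 := IsIso.of_isIso_comp_left (KFlat.stTensorIso F (Coh.structureModule X) x).hom
    ((DerSch.stalkFunctor X x).map (((KFlat.schB X).map (𝟙 F)).app _ ≫ φ))
  rw [CategoryTheory.Functor.map_id, NatTrans.id_app, Category.id_comp] at h1
  haveI := h1
  show IsIso ((DerSch.stalkFunctor X x).map (_ ≫ φ))
  rw [Functor.map_comp]
  infer_instance

attribute [local instance] Nakai.clMonoid

/-- A power of an invertible module is a quotient of two invertible modules with sections through a finite set. -/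
theorem exists_sections [IsNoetherian X] {L₀ L : X.Modules} (hL₀ : CohB1.IsAmple L₀) (hL : PicF.IsInvertible L)
    {Z : Set X} (hZ : Z.Finite) :
    ∃ (b : ℕ) (A₁ A₂ : X.Modules) (t₁ : Coh.structureModule X ⟶ A₁) (t₂ : Coh.structureModule X ⟶ A₂),
      0 < b ∧ PicF.IsInvertible A₁ ∧ PicF.IsInvertible A₂ ∧
      PicF.cl L ^ b * PicF.cl A₂ = PicF.cl A₁ ∧ Z ⊆ CohB1.genLocus A₁ t₁ ∧ Z ⊆ CohB1.genLocus A₂ t₂ := by
  haveI : Coh.IsQCoh L := TMul.isQCoh_of_isInvertible hL
  haveI : L.IsQuasicoherent := TMul.isQCoh_of_isInvertible hL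
  obtain ⟨n, hn⟩ := TMul.exists_forall_genOn (F := L) hL₀ (TMul.isFT_of_isInvertible hL)
  let L' := CohB1.tensorMod L (CohB1.tensorPow L₀ n)
  have hL'i : PicF.IsInvertible L' := TMul.isInvertible_tensorMod hL (TMul.isInvertible_tensorPow hL₀.1 n)
  have hB₁ : CohB1.IsAmple (CohB1.tensorMod L₀ L') := by
    refine TMul.isAmple_tensorMod hL₀ hL'i fun x => ?_
    obtain ⟨D, hD, hxD, hgen⟩ := hn n le_rfl x
    obtain ⟨t, ht⟩ := TMul.exists_mem_genLocus_of_genOn hL'i hD hgen hxD
    exact ⟨0, t ≫ (TMul.leftUnitIso L').inv, by rw [TMul.genLocus_comp]; exact ht⟩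
  have hB₂ : CohB1.IsAmple (CohB1.tensorPow L₀ (n + 1)) := TMul.isAmple_tensorPow hL₀ (Nat.succ_pos n)
  obtain ⟨a₁, s₁, hs₁, -, -⟩ := TMul.exists_finite_le hB₁ hZ (U := ⊤) (Set.subset_univ _)
  obtain ⟨a₂, s₂, hs₂, -, -⟩ := TMul.exists_finite_le hB₂ hZ (U := ⊤) (Set.subset_univ _)
  obtain ⟨t₁, ht₁⟩ := TMul.exists_genLocus_pow hB₁.1 (N := a₁ * a₂ + a₁ + a₂) ⟨a₂ + 1, by ring⟩ s₁
  obtain ⟨t₂, ht₂⟩ := TMul.exists_genLocus_pow hB₂.1 (N := a₁ * a₂ + a₁ + a₂) ⟨a₁ + 1, by ring⟩ s₂
  refine ⟨a₁ * a₂ + a₁ + a₂ + 1, _, _, t₁, t₂, Nat.succ_pos _, TMul.isInvertible_tensorPow hB₁.1 _,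
    TMul.isInvertible_tensorPow hB₂.1 _, ?_, ht₁ ▸ hs₁, ht₂ ▸ hs₂⟩
  simp only [L', Nakai.cl_pow, Nakai.cl_tensor, ← mul_pow]
  congr 1
  rw [pow_succ]
  ac_rfl

end Groth.Agent.CohBound
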