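import Groth.Agent.CohBound.FlatQuot
import Groth.Agent.CurveRR.Euler
import Groth.Agent.ClSubLib.Support
import Groth.Agent.ExtShX.AffineTilde
import Groth.Agent.Devissage.Filt
import Groth.Agent.HilbFib.Basic
import Groth.Agent.QC.Pullback
import Groth.Prelude.Def_ega3

/-!
Sums of the dimensions of the cohomology of fibres, and their behaviour in short exact sequences.
-/

set_option autoImplicit false
set_option linter.style.haveILetI false
set_option backward.isDefEq.respectTransparency false
set_option backward.isDefEq.respectTransparency.types false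
set_option maxHeartbeats 1000000

universe u

open CategoryTheory CategoryTheory.Limits AlgebraicGeometry TopologicalSpace

noncomputable section

namespace Groth.Agent.CohBound

open CurveRR

/-- The three inequalities between the total dimensions of the cohomology in a short exact sequence. -/
theorem le_of_shortExact (k : Type u) [Field k] {X : Scheme.{u}} [X.Over (Spec (CommRingCat.of k))]
    [IsProper (X ↘ Spec (CommRingCat.of k))] {S : ShortComplex X.Modules} (hS : S.ShortExact)
    (h₁ : Coh.IsCoh S.X₁) (h₂ : Coh.IsCoh S.X₂) (h₃ : Coh.IsCoh S.X₃) (N : ℕ)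
    (hN : Subsingleton (Coh.HH X S.X₁ N)) :
    (∑ i ∈ Finset.range N, h k S.X₂ i ≤ (∑ i ∈ Finset.range N, h k S.X₁ i) + ∑ i ∈ Finset.range N, h k S.X₃ i) ∧
    (∑ i ∈ Finset.range N, h k S.X₁ i ≤ (∑ i ∈ Finset.range N, h k S.X₂ i) + ∑ i ∈ Finset.range N, h k S.X₃ i) ∧
    (∑ i ∈ Finset.range N, h k S.X₃ i ≤ (∑ i ∈ Finset.range N, h k S.X₂ i) + ∑ i ∈ Finset.range N, h k S.X₁ i) := by
  have hf₁ : ∀ i, Module.Finite k (Coh.HH X S.X₁ i) := CohFinite.finite_proper k X _ h₁
  have hf₂ : ∀ i, Module.Finite k (Coh.HH X S.X₂ i) := CohFinite.finite_proper k X _ h₂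
  have hf₃ : ∀ i, Module.Finite k (Coh.HH X S.X₃ i) := CohFinite.finite_proper k X _ h₃
  let a : ℕ → ℕ := fun i => Module.finrank k (LinearMap.ker (CohFinite.hhMap k S.f i))
  let b : ℕ → ℕ := fun i => Module.finrank k (LinearMap.ker (CohFinite.hhMap k S.g i))
  let c : ℕ → ℕ := fun i => Module.finrank k (LinearMap.ker (CohFinite.hhδ k hS i))
  have ha0 : a 0 = 0 := by
    simp only [a]
    rw [LinearMap.ker_eq_bot.2 (injective_f hS), finrank_bot]
  have hstep : ∀ i, h k S.X₁ i = b i + a i ∧ h k S.X₂ i = c i + b i ∧ h k S.X₃ i = a (i + 1) + c i := fun i => by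
    have e1 := (CohFinite.hhMap k S.f i).finrank_range_add_finrank_ker
    have e2 := (CohFinite.hhMap k S.g i).finrank_range_add_finrank_ker
    have e3 := (CohFinite.hhδ k hS i).finrank_range_add_finrank_ker
    rw [range_f_eq_ker_g hS i] at e1
    rw [range_g_eq_ker_δ hS i] at e2
    rw [range_δ_eq_ker_f hS i] at e3
    exact ⟨e1.symm, e2.symm, e3.symm⟩
  have haN : a N = 0 := by
    haveI := hN
    simp only [a, Module.finrank_zero_of_subsingleton]
  have hA : ∑ i ∈ Finset.range N, a (i + 1) = ∑ i ∈ Finset.range N, a i := by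
    have h1 := Finset.sum_range_succ a N
    rw [Finset.sum_range_succ', ha0, haN] at h1
    simpa using h1
  rw [Finset.sum_congr rfl fun i _ => (hstep i).1, Finset.sum_congr rfl fun i _ => (hstep i).2.1,
    Finset.sum_congr rfl fun i _ => (hstep i).2.2]
  simp only [Finset.sum_add_distrib, hA]
  omega

variable {X S : Scheme.{u}} (f : X ⟶ S)

/-- The total dimension of the cohomology of a fibre in degrees below `N`. -/
def hsum (F : X.Modules) (s : S) (N : ℕ) : ℕ := ∑ i ∈ Finset.range N, CohIII.fiberRank f F i s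

/-- Vanishing of the cohomology of a fibre from degree `N` on. -/
def VanishAbove (s : S) (N : ℕ) : Prop :=
  ∀ G : X.Modules, Coh.IsQCoh G → ∀ p, N ≤ p → Subsingleton (CohIII.fiberH f G s p)

theorem hsum_congr {F G : X.Modules} (e : F ≅ G) (s : S) (N : ℕ) : hsum f F s N = hsum f G s N :=
  Finset.sum_congr rfl fun i _ => by
    letI : (f.fiber s).Over (Spec (CommRingCat.of (S.residueField s))) := ⟨f.fiberToSpecResidueField s⟩
    exact (CohFinite.hhEquiv (S.residueField s) ((Scheme.Modules.pullback (f.fiberι s)).mapIso e) i).finrank_eq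

theorem hsum_eq_zero {F : X.Modules} {s : S} (h : ∀ x ∈ CohB1.support F, f.base x ≠ s) (N : ℕ) :
    hsum f F s N = 0 := by
  refine Finset.sum_eq_zero fun i _ => ?_
  letI : (f.fiber s).Over (Spec (CommRingCat.of (S.residueField s))) := ⟨f.fiberToSpecResidueField s⟩
  have h0 : CohB1.support ((Scheme.Modules.pullback (f.fiberι s)).obj F) = ∅ := by
    refine Set.eq_empty_of_forall_notMem fun z hz => h _ (ClSubLib.support_pullback_subset _ _ hz) ?_
    have hz' : f.fiberι s z ∈ Set.range (f.fiberι s) := ⟨z, rfl⟩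
    rw [f.range_fiberι] at hz'
    exact hz'
  haveI : Subsingleton (Coh.HH (f.fiber s) ((Scheme.Modules.pullback (f.fiberι s)).obj F) i) :=
    ExtShX.subsingleton_hh_zero (A := S.residueField s) (Devissage.isZero_of_support h0) i
  exact Module.finrank_zero_of_subsingleton

theorem hsum_ineq [IsProper f] {T : ShortComplex X.Modules} (hT : T.ShortExact) {s : S} {N : ℕ}
    (h₁ : Coh.IsCoh T.X₁) (h₂ : Coh.IsCoh T.X₂) (h₃ : Coh.IsCoh T.X₃)
    (hfl : ∀ x : X, f.base x = s → FlatMod.IsFlatOverAt f T.X₃ x) (hv : VanishAbove f s N) :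
    hsum f T.X₂ s N ≤ hsum f T.X₁ s N + hsum f T.X₃ s N ∧
      hsum f T.X₁ s N ≤ hsum f T.X₂ s N + hsum f T.X₃ s N ∧
      hsum f T.X₃ s N ≤ hsum f T.X₂ s N + hsum f T.X₁ s N := by
  letI : (f.fiber s).Over (Spec (CommRingCat.of (S.residueField s))) := ⟨f.fiberToSpecResidueField s⟩
  haveI : IsProper (f.fiber s ↘ Spec (CommRingCat.of (S.residueField s))) :=
    inferInstanceAs (IsProper (pullback.snd f (S.fromSpecResidueField s)))
  have h : (T.map (Scheme.Modules.pullback (f.fiberι s))).ShortExact :=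
    shortExact_pullback_fst f (S.fromSpecResidueField s) hT fun x hx => hfl x (by
      rw [Scheme.range_fromSpecResidueField] at hx
      exact hx)
  have hN : Subsingleton (Coh.HH (f.fiber s) (T.map (Scheme.Modules.pullback (f.fiberι s))).X₁ N) :=
    hv _ h₁.1 N le_rfl
  have k₁ : Coh.IsCoh (T.map (Scheme.Modules.pullback (f.fiberι s))).X₁ := QC.isCoh_pullback (f.fiberι s) h₁
  have k₂ : Coh.IsCoh (T.map (Scheme.Modules.pullback (f.fiberι s))).X₂ := QC.isCoh_pullback (f.fiberι s) h₂
  have k₃ : Coh.IsCoh (T.map (Scheme.Modules.pullback (f.fiberι s))).X₃ := QC.isCoh_pullback (f.fiberι s) h₃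
  exact le_of_shortExact (S.residueField s) h k₁ k₂ k₃ N hN

end Groth.Agent.CohBound
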