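import Groth.Agent.DQCoh.BCStalk
import Groth.Agent.DQCoh.RelTor
import Groth.Agent.FlatFunLib.ModCond

/-!
Base change of short exact sequences of modules with quotient flat over the base.
-/

set_option autoImplicit false
set_option linter.style.haveILetI false
set_option backward.isDefEq.respectTransparency false
set_option backward.isDefEq.respectTransparency.types false
set_option maxHeartbeats 1000000

universe u

open CategoryTheory CategoryTheory.Limits AlgebraicGeometry TensorProduct

namespace Groth.Agent.CohBound

attribute [local instance] Algebra.TensorProduct.rightAlgebra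

/-- An injection with cokernel flat over `R` stays injective over a ring flat over `S ⊗[R] R'`. -/
theorem lTensor_injective_of_flat_quot {R S R' C : Type u} [CommRing R] [CommRing S] [CommRing R'] [CommRing C]
    [Algebra R S] [Algebra R R'] [Algebra R C] [Algebra S C] [Algebra R' C] [IsScalarTower R S C]
    [IsScalarTower R R' C] (h : (DQCoh.BCAlg.cmpHom R S R' C).Flat)
    {M N P : Type u} [AddCommGroup M] [AddCommGroup N] [AddCommGroup P] [Module S M] [Module S N] [Module S P]
    [Module R M] [Module R N] [Module R P] [IsScalarTower R S M] [IsScalarTower R S N] [IsScalarTower R S P]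
    [Module.Flat R P] (f : M →ₗ[S] N) (g : N →ₗ[S] P) (hf : Function.Injective f) (hg : Function.Surjective g)
    (hfg : Function.Exact f g) : Function.Injective (f.lTensor C) := by
  let B := S ⊗[R] R'
  letI : Algebra B C := (DQCoh.BCAlg.cmpHom R S R' C).toAlgebra
  haveI : IsScalarTower S B C := IsScalarTower.of_algebraMap_eq fun s => by
    change _ = DQCoh.BCAlg.cmpHom R S R' C (s ⊗ₜ 1)
    rw [DQCoh.BCAlg.cmpHom_tmul, map_one, mul_one]
  haveI : Module.Flat B C := h
  have h1 : Function.Injective ((f.restrictScalars R).lTensor R') :=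
    LinearMap.lTensor_injective_of_exact_of_flat (g.restrictScalars R) hg (f.restrictScalars R) hf hfg R'
  let u : B ⊗[S] M →ₗ[B] B ⊗[S] N := AlgebraTensorModule.lTensor B B f
  let E (V : Type u) [AddCommGroup V] [Module S V] [Module R V] [IsScalarTower R S V] :
      B ⊗[S] V ≃ₗ[R'] R' ⊗[R] V := Algebra.IsPushout.cancelBaseChange R R' S B V
  have nat : ∀ z : R' ⊗[R] M, u ((E M).symm z) = (E N).symm ((f.restrictScalars R).lTensor R' z) := by
    intro z
    induction z using TensorProduct.induction_on with
    | zero => simp only [map_zero]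
    | add a b ha hb => simp only [map_add, ha, hb]
    | tmul q v => simp only [u, E, LinearMap.lTensor_tmul]; rfl
  have hu : Function.Injective u := by
    intro a b hab
    obtain ⟨a, rfl⟩ := (E M).symm.surjective a
    obtain ⟨b, rfl⟩ := (E M).symm.surjective b
    rw [nat, nat] at hab
    rw [h1 ((E N).symm.injective hab)]
  have h2 : Function.Injective (u.lTensor C) :=
    Module.Flat.lTensor_preserves_injective_linearMap (M := C) u hu
  let F (V : Type u) [AddCommGroup V] [Module S V] : C ⊗[B] (B ⊗[S] V) ≃ₗ[C] C ⊗[S] V :=
    AlgebraTensorModule.cancelBaseChange S B C C V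
  have nat2 : ∀ z : C ⊗[S] M, u.lTensor C ((F M).symm z) = (F N).symm (f.lTensor C z) := by
    intro z
    induction z using TensorProduct.induction_on with
    | zero => simp only [map_zero]
    | add a b ha hb => simp only [map_add, ha, hb]
    | tmul c v =>
      simp only [F, u, LinearMap.lTensor_tmul, AlgebraTensorModule.cancelBaseChange_symm_tmul]
      rfl
  intro a b hab
  exact (F M).symm.injective (h2 (((nat2 a).trans (congrArg (F N).symm hab)).trans (nat2 b).symm))

variable {X S S' : Scheme.{u}} (f : X ⟶ S) (g : S' ⟶ S)

/-- A short exact sequence with flat quotient stays left exact after base change. -/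
theorem mono_pullback_fst {T : ShortComplex X.Modules} (hT : T.ShortExact)
    (hfl : ∀ x : X, f.base x ∈ Set.range g.base → FlatMod.IsFlatOverAt f T.X₃ x) :
    Mono ((Scheme.Modules.pullback (pullback.fst f g)).map T.f) := by
  refine FlatFunLib.mono_of_stalks _ fun z => ((MorphismProperty.monomorphisms _).arrow_mk_iso_iff
    (FlatFunLib.stalk_pullback (pullback.fst f g) z T.f)).2 ?_
  let x := (pullback.fst f g).base z
  have hx : f.base x ∈ Set.range g.base :=
    ⟨(pullback.snd f g).base z, DQCoh.BCStalk.base_eq f g z⟩
  have hcmp := DQCoh.BCStalk.flat_cmpHom f g z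
  have hs := hT.map_of_exact (DerSch.stalkFunctor X x)
  letI := (f.stalkMap x).hom.toAlgebra
  letI := (DQCoh.BCStalk.baseMap f g z).hom.toAlgebra
  letI := ((pullback.fst f g).stalkMap z).hom.toAlgebra
  letI := ((pullback.snd f g).stalkMap z).hom.toAlgebra
  letI := (f.stalkMap x ≫ (pullback.fst f g).stalkMap z).hom.toAlgebra
  haveI : IsScalarTower (S.presheaf.stalk (f.base x)) (X.presheaf.stalk x) ((pullback f g).presheaf.stalk z) :=
    IsScalarTower.of_algebraMap_eq fun _ => rfl
  haveI : IsScalarTower (S.presheaf.stalk (f.base x)) (S'.presheaf.stalk ((pullback.snd f g).base z))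
      ((pullback f g).presheaf.stalk z) :=
    IsScalarTower.of_algebraMap_eq fun a => congr(($(DQCoh.BCStalk.comm f g z)).hom a)
  letI : ∀ M : X.Modules, Module (S.presheaf.stalk (f.base x)) ((DerSch.stalkFunctor X x).obj M) :=
    fun M => Module.compHom _ (f.stalkMap x).hom
  haveI : ∀ M : X.Modules, IsScalarTower (S.presheaf.stalk (f.base x)) (X.presheaf.stalk x)
      ((DerSch.stalkFunctor X x).obj M) := fun M => IsScalarTower.of_algebraMap_smul fun _ _ => rfl
  haveI : Module.Flat (S.presheaf.stalk (f.base x)) ((DerSch.stalkFunctor X x).obj T.X₃) := hfl x hx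
  haveI := hs.mono_f
  haveI := hs.epi_g
  refine (ModuleCat.mono_iff_injective _).2 ?_
  exact lTensor_injective_of_flat_quot hcmp ((DerSch.stalkFunctor X x).map T.f).hom
    ((DerSch.stalkFunctor X x).map T.g).hom ((ModuleCat.mono_iff_injective _).1 hs.mono_f)
    ((ModuleCat.epi_iff_surjective _).1 hs.epi_g)
    ((ShortComplex.ShortExact.moduleCat_exact_iff_function_exact _).1 hs.exact)

/-- A short exact sequence with flat quotient stays exact after base change. -/
theorem shortExact_pullback_fst {T : ShortComplex X.Modules} (hT : T.ShortExact)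
    (hfl : ∀ x : X, f.base x ∈ Set.range g.base → FlatMod.IsFlatOverAt f T.X₃ x) :
    (T.map (Scheme.Modules.pullback (pullback.fst f g))).ShortExact := by
  haveI := hT.epi_g
  haveI : Mono (T.map (Scheme.Modules.pullback (pullback.fst f g))).f := mono_pullback_fst f g hT hfl
  haveI : Epi (T.map (Scheme.Modules.pullback (pullback.fst f g))).g :=
    inferInstanceAs (Epi ((Scheme.Modules.pullback (pullback.fst f g)).map T.g))
  exact ShortComplex.ShortExact.mk' (ShortComplex.exact_of_g_is_cokernel _
    (CokernelCofork.mapIsColimit _ hT.gIsCokernel (Scheme.Modules.pullback (pullback.fst f g)))) inferInstance inferInstance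

end Groth.Agent.CohBound
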