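import Groth.Agent.CohBound.Fibre
import Groth.Agent.CohBound.Pieces
import Groth.Agent.W7Cech.GrauertSheaf
import Groth.Agent.W7Cech.Snap
import Groth.Agent.W7Cech.TwistInv
import Groth.Agent.FlatModBC.GenFlat
import Groth.Agent.HilbFib.Square
import Groth.Agent.RPushQC.Acyclic
import Groth.Agent.SupportLib.Pull

/-!
Uniform bounds for the cohomology of the fibres of powers of an invertible module over an open of an integral base.
-/

set_option autoImplicit false
set_option linter.style.haveILetI false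
set_option backward.isDefEq.respectTransparency false
set_option backward.isDefEq.respectTransparency.types false
set_option maxHeartbeats 1000000

universe u

open CategoryTheory CategoryTheory.Limits AlgebraicGeometry TopologicalSpace

noncomputable section

namespace Groth.Agent.CohBound

attribute [local instance] Nakai.clMonoid

variable {X S : Scheme.{u}}

/-- Flatness at a point is stable under tensoring with an invertible module. -/
theorem isFlatOverAt_tensor (f : X ⟶ S) {F M : X.Modules} (hF : Coh.IsQCoh F) (hM : PicF.IsInvertible M) {x : X}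
    (h : FlatMod.IsFlatOverAt f F x) : FlatMod.IsFlatOverAt f (CohB1.tensorMod F M) x := by
  obtain ⟨U, hx, ⟨e⟩⟩ := W7Cech.exists_restrict_tensor_iso (F := F) hM x
  let z : U.toScheme := ⟨x, hx⟩
  have hflat : (U.ι.stalkMap z).hom.Flat :=
    RingHom.Flat.of_bijective (ConcreteCategory.bijective_of_isIso (U.ι.stalkMap z))
  have hq : Coh.IsQCoh (CohB1.tensorMod F M) := TMul.isQCoh_tensor hM (hF := hF)
  refine (S9350.result U.ι f _ hq z hflat).2 ?_
  exact FlatLimMod.isFlatOverAt_of_iso _ (((Scheme.Modules.restrictFunctorIsoPullback U.ι).app F).symm ≪≫ e ≪≫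
    (Scheme.Modules.restrictFunctorIsoPullback U.ι).app _) ((S9350.result U.ι f F hF z hflat).1 h)

/-- Tensoring with an invertible module keeps the support. -/
theorem support_tensor_invertible [IsNoetherian X] {F M : X.Modules} (hF : Coh.IsCoh F) (hM : PicF.IsInvertible M) :
    CohB1.support (CohB1.tensorMod F M) = CohB1.support F := by
  rw [SupportLib.support_tensor F M (NegTwist.finite_stalk_of_isCoh hF)
    (NegTwist.finite_stalk_of_isCoh (CurveRR.isCoh_of_inv hM))]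
  refine Set.inter_eq_left.2 fun x _ => ?_
  obtain ⟨U, e, hxU, he⟩ := TMul.exists_isGen hM x
  let v : X.presheaf.stalk x ≃ₗ[X.presheaf.stalk x] M.presheaf.stalk x :=
    LinearEquiv.ofBijective (LinearMap.toSpanSingleton _ _ (WeakAssLib.mgerm M hxU e))
      (RefDiv.bijective_germ_of_isGen he hxU)
  intro hs
  exact not_subsingleton (X.presheaf.stalk x) (v.toEquiv.subsingleton_congr.2 hs)

theorem hsum_congr_cl (f : X ⟶ S) {F G : X.Modules} (h : PicF.cl F = PicF.cl G) (s : S) (N : ℕ) :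
    hsum f F s N = hsum f G s N :=
  (Nakai.iso_of_cl h).elim fun e => hsum_congr f e s N

variable (f : X ⟶ S) [IsProper f] [IsNoetherian S] [IsIntegral S] {η : S} (hη : ∀ t : S, η ⤳ t)

include hη in
/-- The total dimension of the cohomology of the fibres is bounded near the generic point. -/
theorem exists_bound_zero {F : X.Modules} (hF : Coh.IsCoh F) (N : ℕ) :
    ∃ (U : S.Opens) (C : ℕ), η ∈ U ∧ ∀ t ∈ U, hsum f F t N ≤ C := by
  classical
  haveI : IsLocallyNoetherian X := LocallyOfFiniteType.isLocallyNoetherian f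
  haveI : Coh.IsQCoh F := hF.1
  obtain ⟨U, ⟨t₀, ht₀⟩, hfl⟩ := FlatModBC.exists_opens_flatAt f F hF.2
  obtain ⟨V, hV, hηV, hVU⟩ := exists_isAffineOpen_mem_and_subset (X := S) (x := η) (U := U)
    ((hη t₀).mem_open U.2 ht₀)
  let X' := (f ⁻¹ᵁ V).toScheme
  let g : X' ⟶ V.toScheme := f ∣_ V
  haveI : IsProper g := IsZariskiLocalAtTarget.restrict (P := @IsProper) ‹_› V
  haveI : HasInjectiveResolutions X'.Modules := RPushQC.hasInjectiveResolutions X'
  have sq : IsPullback (f ⁻¹ᵁ V).ι g f V.ι := (isPullback_morphismRestrict f V).flip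
  let F' := (Scheme.Modules.pullback (f ⁻¹ᵁ V).ι).obj F
  have hfl' : FlatMod.IsFlatOver g F' := fun x => FlatModBC.isFlatOverAt_baseChange sq F x (hfl _ (hVU x.2))
  haveI : IsAffine V.toScheme := hV
  obtain ⟨m⟩ := W7Cech.nonempty_Model g (F := F') (QC.isCoh_pullback _ hF) hfl' (isAffineOpen_top V.toScheme)
  haveI := fun i => (m.hL i).1
  haveI := fun i => (m.hL i).2
  haveI := W7Cech.finitePresentationX m.L m.hL
  let r : ℕ → PrimeSpectrum Γ(V.toScheme, ⊤) → ℕ := fun p x =>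
    Module.rankAtStalk (R := Γ(V.toScheme, ⊤)) (m.L.X (p : ℤ)) x
  have hfin : ∀ p, (Set.range (r p)).Finite := fun p =>
    (Module.isLocallyConstant_rankAtStalk (R := Γ(V.toScheme, ⊤)) (M := m.L.X (p : ℤ))).range_finite
  refine ⟨V, ∑ p ∈ Finset.range N, (hfin p).toFinset.sup id, hηV, fun t ht => ?_⟩
  refine Finset.sum_le_sum fun p _ => ?_
  let z : V.toScheme := ⟨t, ht⟩
  have h1 : CohIII.fiberRank g F' p z = CohIII.fiberRank f F p t :=
    HilbFib.betti_of_isPullback sq F hF.1 z p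
  rw [← h1]
  obtain ⟨x, hx⟩ : ∃ x, (isAffineOpen_top V.toScheme).fromSpec x = z :=
    ⟨_, (isAffineOpen_top V.toScheme).fromSpec_primeIdealOf ⟨z, trivial⟩⟩
  rw [← hx, m.hrk p x]
  refine le_trans ?_ (Finset.le_sup (f := id) ((hfin p).mem_toFinset.2 ⟨x, rfl⟩))
  have h2 := W7Cech.rank_d_add m.L m.hL (p : ℤ) x
  simp only [id, r]
  omega

/-- The bound for modules without chains of `d + 1` points in the generic fibre of the support. -/
def Bounded (F : X.Modules) (d : ℕ) : Prop :=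
  ∀ L : X.Modules, PicF.IsInvertible L → ∀ N : ℕ, ∃ (U : S.Opens) (C : ℕ), η ∈ U ∧
    ∀ t ∈ U, VanishAbove f t N → ∀ m : ℕ,
      hsum f (CohB1.tensorMod F (CohB1.tensorPow L m)) t N ≤ C * (d * (m + 1) ^ (d - 1))

include hη in
theorem bounded_zero {F : X.Modules} (hF : Coh.IsCoh F) (h : NoChain f η F 0) : Bounded f (η := η) F 0 := by
  intro L _ N
  have hB : IsClosed (CohB1.support F) := QC.isClosed_support hF.2
  let U : S.Opens := ⟨(f.base '' CohB1.support F)ᶜ, (f.isClosedMap _ hB).isOpen_compl⟩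
  refine ⟨U, 0, ?_, fun t ht _ m => le_of_eq ?_⟩
  · rintro ⟨x, hx, hxη⟩
    exact h (fun _ => x) (fun _ => ⟨hx, hxη⟩) fun i j hij => absurd hij (by omega)
  · rw [zero_mul]
    exact hsum_eq_zero f (fun x hx hxt => ht ⟨x, Intersect.support_tensor_subset hB le_rfl _ hx, hxt⟩) N

include hη in
/-- Comparison of the cohomology before and after multiplying with a section. -/
theorem exists_compare {F M : X.Modules} (hF : Coh.IsCoh F) {d : ℕ} (hd : NoChain f η F (d + 1))
    (hbd : ∀ G : X.Modules, Coh.IsCoh G → NoChain f η G d → Bounded f (η := η) G d)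
    (hM : PicF.IsInvertible M) (t₀ : Coh.structureModule X ⟶ M) {Z : Set X} (hZ : Z ⊆ CohB1.support F)
    (hgen : ∀ x ∈ CohB1.support F, ∃ w ∈ Z, w ⤳ x) (hZt : Z ⊆ CohB1.genLocus M t₀)
    {L : X.Modules} (hL : PicF.IsInvertible L) (N : ℕ) :
    ∃ (U : S.Opens) (C : ℕ), η ∈ U ∧ ∀ t ∈ U, VanishAbove f t N → ∀ m : ℕ,
      hsum f (CohB1.tensorMod F (CohB1.tensorPow L m)) t N ≤
          hsum f (CohB1.tensorMod (CohB1.tensorMod F M) (CohB1.tensorPow L m)) t N + C * (d * (m + 1) ^ (d - 1)) ∧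
        hsum f (CohB1.tensorMod (CohB1.tensorMod F M) (CohB1.tensorPow L m)) t N ≤
          hsum f (CohB1.tensorMod F (CohB1.tensorPow L m)) t N + C * (d * (m + 1) ^ (d - 1)) := by
  haveI : IsNoetherian X := by
    haveI : IsLocallyNoetherian X := LocallyOfFiniteType.isLocallyNoetherian f
    haveI : CompactSpace X := QuasiCompact.compactSpace_of_compactSpace f
    exact {}
  have hFM : Coh.IsCoh (CohB1.tensorMod F M) := CohFinite.isCoh_tensor hF hM
  obtain ⟨T₁, T₂, h₁, h₂, ⟨e₁⟩, ⟨e₂⟩, ⟨e₃⟩, hK, hI, hG, hKs, hGs, hiso⟩ := exists_two_seq hF hFM (mulSec F t₀)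
  have hFB : IsClosed (CohB1.support F) := QC.isClosed_support hF.2
  have hGs' : CohB1.support T₂.X₃ ⊆ CohB1.support F :=
    hGs.trans (Intersect.support_tensor_subset hFB le_rfl _)
  have hdK : NoChain f η T₁.X₁ d := noChain_succ hη hKs
    (fun x hx hxU => (hiso x (isIso_stalk_mulSec F t₀ hxU)).1 hx) hZ hZt hgen hd
  have hdG : NoChain f η T₂.X₃ d := noChain_succ hη hGs'
    (fun x hx hxU => (hiso x (isIso_stalk_mulSec F t₀ hxU)).2 hx) hZ hZt hgen hd
  obtain ⟨U₁, C₁, hU₁, hb₁⟩ := hbd _ hK hdK L hL N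
  obtain ⟨U₂, C₂, hU₂, hb₂⟩ := hbd _ hG hdG L hL N
  haveI : Coh.IsQCoh T₁.X₃ := hI.1
  haveI : Coh.IsQCoh T₂.X₃ := hG.1
  obtain ⟨V₁, ⟨v₁, hv₁⟩, hfl₁⟩ := FlatModBC.exists_opens_flatAt f T₁.X₃ hI.2
  obtain ⟨V₂, ⟨v₂, hv₂⟩, hfl₂⟩ := FlatModBC.exists_opens_flatAt f T₂.X₃ hG.2
  refine ⟨U₁ ⊓ U₂ ⊓ (V₁ ⊓ V₂), C₁ + C₂,
    ⟨⟨hU₁, hU₂⟩, (hη v₁).mem_open V₁.2 hv₁, (hη v₂).mem_open V₂.2 hv₂⟩, fun t ht hv m => ?_⟩
  let P := CohB1.tensorPow L m
  have hP : PicF.IsInvertible P := TMul.isInvertible_tensorPow hL m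
  have k₁ := hsum_ineq f (CohFinite.shortExact_tmap hP h₁) (s := t) (N := N)
    (CohFinite.isCoh_tensor hK hP) (CohFinite.isCoh_tensor (CohFinite.isCoh_of_iso e₁.symm hF) hP)
    (CohFinite.isCoh_tensor hI hP)
    (fun x hx => isFlatOverAt_tensor f hI.1 hP (hfl₁ x (hx.symm ▸ ht.2.1))) hv
  have k₂ := hsum_ineq f (CohFinite.shortExact_tmap hP h₂) (s := t) (N := N)
    (CohFinite.isCoh_tensor (CohFinite.isCoh_of_iso e₃ hI) hP) (CohFinite.isCoh_tensor (CohFinite.isCoh_of_iso e₂.symm hFM) hP)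
    (CohFinite.isCoh_tensor hG hP)
    (fun x hx => isFlatOverAt_tensor f hG.1 hP (hfl₂ x (hx.symm ▸ ht.2.2))) hv
  dsimp only [P] at k₁ k₂
  rw [hsum_congr f (PicGrp.tensorModIso e₁ (Iso.refl (CohB1.tensorPow L m))) t N] at k₁
  rw [hsum_congr f (PicGrp.tensorModIso e₂ (Iso.refl (CohB1.tensorPow L m))) t N,
    ← hsum_congr f (PicGrp.tensorModIso e₃ (Iso.refl (CohB1.tensorPow L m))) t N] at k₂
  have b₁ := hb₁ t ht.1.1 hv m
  have b₂ := hb₂ t ht.1.2 hv m
  rw [add_mul]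
  constructor <;> omega

theorem sum_step {a : ℕ → ℕ} {c d : ℕ} (h : ∀ m, a (m + 1) ≤ a m + c * (d * (m + 1) ^ (d - 1))) (m : ℕ) :
    a m ≤ (a 0 + c) * ((d + 1) * (m + 1) ^ d) := by
  rcases Nat.eq_zero_or_pos d with rfl | hd
  · have h0 : a m ≤ a 0 := by
      induction m with
      | zero => exact le_rfl
      | succ m ih => exact le_trans (le_trans (h m) (by simp)) ih
    calc a m ≤ a 0 + c := h0.trans (Nat.le_add_right _ _)
      _ = _ := by simp
  · have h1 : a m ≤ a 0 + m * (c * (d * (m + 1) ^ (d - 1))) := by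
      induction m with
      | zero => simp
      | succ m ih =>
        have hp : (m + 1) ^ (d - 1) ≤ (m + 1 + 1) ^ (d - 1) := Nat.pow_le_pow_left (Nat.le_succ _) _
        have hq : c * (d * (m + 1) ^ (d - 1)) ≤ c * (d * (m + 1 + 1) ^ (d - 1)) :=
          Nat.mul_le_mul_left _ (Nat.mul_le_mul_left _ hp)
        calc a (m + 1) ≤ a m + c * (d * (m + 1) ^ (d - 1)) := h m
          _ ≤ a 0 + m * (c * (d * (m + 1 + 1) ^ (d - 1))) + c * (d * (m + 1 + 1) ^ (d - 1)) := by
            have := Nat.mul_le_mul_left m hq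
            omega
          _ = _ := by ring
    have h2 : (m + 1) ^ d = (m + 1) ^ (d - 1) * (m + 1) := by rw [← pow_succ]; congr 1; omega
    calc a m ≤ a 0 + m * (c * (d * (m + 1) ^ (d - 1))) := h1
      _ ≤ a 0 * ((d + 1) * (m + 1) ^ d) + c * ((d + 1) * (m + 1) ^ d) := by
        refine Nat.add_le_add (Nat.le_mul_of_pos_right _ (Nat.mul_pos (Nat.succ_pos _) (pow_pos (Nat.succ_pos _) _))) ?_
        calc m * (c * (d * (m + 1) ^ (d - 1))) = c * (d * ((m + 1) ^ (d - 1) * m)) := by ring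
          _ ≤ c * ((d + 1) * ((m + 1) ^ (d - 1) * (m + 1))) :=
            Nat.mul_le_mul_left _ (Nat.mul_le_mul (Nat.le_succ _) (Nat.mul_le_mul_left _ (Nat.le_succ _)))
          _ = _ := by rw [← h2]
      _ = _ := by ring

include hη in
theorem bounded_succ {L₀ : X.Modules} (hL₀ : CohB1.IsAmple L₀) {F : X.Modules} (hF : Coh.IsCoh F) {d : ℕ}
    (hd : NoChain f η F (d + 1))
    (hbd : ∀ G : X.Modules, Coh.IsCoh G → NoChain f η G d → Bounded f (η := η) G d) :
    Bounded f (η := η) F (d + 1) := by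
  intro L hL N
  haveI : IsNoetherian X := by
    haveI : IsLocallyNoetherian X := LocallyOfFiniteType.isLocallyNoetherian f
    haveI : CompactSpace X := QuasiCompact.compactSpace_of_compactSpace f
    exact {}
  have hB : IsClosed (CohB1.support F) := QC.isClosed_support hF.2
  obtain ⟨Z, hZf, hZ, hgen⟩ := exists_max_points hB
  obtain ⟨b, A₁, A₂, t₁, t₂, hb, hA₁, hA₂, hcl, hZ₁, hZ₂⟩ := exists_sections hL₀ hL hZf
  let L' := CohB1.tensorPow L b
  have hL' : PicF.IsInvertible L' := TMul.isInvertible_tensorPow hL b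
  let Fj : Fin b → X.Modules := fun j => CohB1.tensorMod F (CohB1.tensorPow L j)
  have hFj : ∀ j, Coh.IsCoh (Fj j) := fun j => CohFinite.isCoh_tensor hF (TMul.isInvertible_tensorPow hL _)
  have hsupp : ∀ j, CohB1.support (Fj j) = CohB1.support F := fun j =>
    support_tensor_invertible hF (TMul.isInvertible_tensorPow hL _)
  have hdj : ∀ j, NoChain f η (Fj j) (d + 1) := fun j => noChain_of_support_subset (hsupp j).le hd
  have key : ∀ j : Fin b, ∃ (U : S.Opens) (C : ℕ), η ∈ U ∧ ∀ t ∈ U, VanishAbove f t N → ∀ q : ℕ,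
      hsum f (CohB1.tensorMod (Fj j) (CohB1.tensorPow L' q)) t N ≤ C * ((d + 1) * (q + 1) ^ d) := by
    intro j
    obtain ⟨U₀, C₀, hU₀, h₀⟩ := exists_bound_zero f hη (CohFinite.isCoh_tensor (hFj j) (TMul.isInvertible_tensorPow hL' 0)) N
    obtain ⟨U₁, C₁, hU₁, h₁⟩ := exists_compare f hη (hFj j) (hdj j) hbd hA₁ t₁
      (hZ.trans (hsupp j).ge) (fun x hx => hgen x ((hsupp j).le hx)) hZ₁ hL' N
    obtain ⟨U₂, C₂, hU₂, h₂⟩ := exists_compare f hη (hFj j) (hdj j) hbd hA₂ t₂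
      (hZ.trans (hsupp j).ge) (fun x hx => hgen x ((hsupp j).le hx)) hZ₂ hL' N
    refine ⟨U₀ ⊓ (U₁ ⊓ U₂), C₀ + (2 ^ (d - 1) * C₂ + C₁), ⟨hU₀, hU₁, hU₂⟩, fun t ht hv q => ?_⟩
    refine le_trans (sum_step (a := fun q => hsum f (CohB1.tensorMod (Fj j) (CohB1.tensorPow L' q)) t N) (d := d) (c := 2 ^ (d - 1) * C₂ + C₁) (fun k => ?_) q)
      (Nat.mul_le_mul_right _ (Nat.add_le_add_right (h₀ t ht.1) _))
    have e : hsum f (CohB1.tensorMod (CohB1.tensorMod (Fj j) A₂) (CohB1.tensorPow L' (k + 1))) t N =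
        hsum f (CohB1.tensorMod (CohB1.tensorMod (Fj j) A₁) (CohB1.tensorPow L' k)) t N := by
      refine hsum_congr_cl f ?_ t N
      simp only [L', Nakai.cl_tensor, Nakai.cl_pow, pow_succ, ← hcl]
      ac_rfl
    have i₁ := (h₁ t ht.2.1 hv k).2
    have i₂ := (h₂ t ht.2.2 hv (k + 1)).1
    have hp : (k + 1 + 1) ^ (d - 1) ≤ 2 ^ (d - 1) * (k + 1) ^ (d - 1) := by
      rw [← mul_pow]; exact Nat.pow_le_pow_left (by omega) _
    have hq : C₂ * (d * (k + 1 + 1) ^ (d - 1)) ≤ 2 ^ (d - 1) * C₂ * (d * (k + 1) ^ (d - 1)) :=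
      le_trans (Nat.mul_le_mul_left _ (Nat.mul_le_mul_left _ hp)) (le_of_eq (by ring))
    rw [add_mul]
    omega
  choose U C hU hC using key
  refine ⟨⨅ j, U j, ∑ j, C j, ?_, fun t ht hv m => ?_⟩
  · rw [← SetLike.mem_coe, Opens.coe_iInf, Set.mem_iInter]
    exact hU
  rw [← SetLike.mem_coe, Opens.coe_iInf, Set.mem_iInter] at ht
  let j : Fin b := ⟨m % b, Nat.mod_lt _ hb⟩
  have e : hsum f (CohB1.tensorMod F (CohB1.tensorPow L m)) t N =
      hsum f (CohB1.tensorMod (Fj j) (CohB1.tensorPow L' (m / b))) t N := by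
    refine hsum_congr_cl f ?_ t N
    simp only [Fj, L', j, Nakai.cl_tensor, Nakai.cl_pow, mul_assoc, ← pow_mul, ← pow_add, Nat.mod_add_div]
  rw [e]
  refine (hC j t (ht j) hv _).trans ?_
  rw [Nat.add_sub_cancel]
  exact Nat.mul_le_mul (Finset.single_le_sum (f := C) (fun i _ => Nat.zero_le _) (Finset.mem_univ j))
    (Nat.mul_le_mul_left _ (Nat.pow_le_pow_left (Nat.add_le_add_right (Nat.div_le_self _ _) _) _))

include hη in
theorem bounded_all {L₀ : X.Modules} (hL₀ : CohB1.IsAmple L₀) : ∀ (d : ℕ) (F : X.Modules), Coh.IsCoh F →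
    NoChain f η F d → Bounded f (η := η) F d
  | 0, _, hF, h => bounded_zero f hη hF h
  | d + 1, _, hF, h => bounded_succ f hη hL₀ hF h (bounded_all hL₀ d)

end Groth.Agent.CohBound
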