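import Groth.Agent.CohBound.Induct
import Groth.Agent.GeomFib.GenericDim
import Groth.Agent.W7Gen.Good
import Groth.Agent.HilbFib.Affine
import Groth.Agent.HilbFib.ProjBase
import Groth.Agent.DimField.Limit
import Groth.Agent.Nakai.Main
import Groth.Agent.S2359

/-!
Uniform bound for the cohomology of the fibres of powers of an invertible module on a projective family.
-/

set_option autoImplicit false
set_option linter.style.haveILetI false
set_option backward.isDefEq.respectTransparency false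
set_option backward.isDefEq.respectTransparency.types false
set_option maxHeartbeats 1000000

universe u

open CategoryTheory CategoryTheory.Limits AlgebraicGeometry TopologicalSpace

noncomputable section

namespace Groth.Agent.CohBound

/-- The uniform bound on a set of points of the base. -/
def Good {X S : Scheme.{u}} (f : X ⟶ S) (F L : X.Modules) (Z : Set S) : Prop :=
  ∃ C : ℕ, ∀ t ∈ Z, ∀ e : ℕ, topologicalKrullDim ↥(f.fiber t) = e → ∀ m : ℕ, 1 ≤ m → ∀ i : ℕ,
    CohIII.fiberRank f (CohB1.tensorMod F (CohB1.tensorPow L m)) i t ≤ C * m ^ e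

variable {X S : Scheme.{u}} (f : X ⟶ S)

theorem dim_fiber_cases [IsProper f] (t : S) :
    (∀ e : ℕ, topologicalKrullDim ↥(f.fiber t) ≤ (e : WithBot ℕ∞)) ∨
      ∃ e : ℕ, topologicalKrullDim ↥(f.fiber t) = (e : WithBot ℕ∞) := by
  letI : (f.fiber t).Over (Spec (CommRingCat.of (S.residueField t))) := ⟨f.fiberToSpecResidueField t⟩
  haveI : IsProper (f.fiber t ↘ Spec (CommRingCat.of (S.residueField t))) :=
    inferInstanceAs (IsProper (pullback.snd f (S.fromSpecResidueField t)))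
  obtain ⟨d, hd⟩ := Nakai.exists_dim_bound (S.residueField t) (X := f.fiber t)
  generalize topologicalKrullDim ↥(f.fiber t) = q at hd
  induction q with
  | bot => exact Or.inl fun _ => bot_le
  | coe q =>
    refine Or.inr ?_
    have h1 : q ≤ (d : ℕ∞) := by exact_mod_cast hd
    obtain ⟨n, hn⟩ := ENat.ne_top_iff_exists.1 (ne_top_of_le_ne_top (ENat.natCast_ne_top d) h1)
    exact ⟨n, by rw [← hn]; rfl⟩

/-- The bound near the generic point of an integral affine base. -/
theorem exists_open_good_integral {A : Type u} [CommRing A] [IsDomain A] [IsNoetherianRing A]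
    (f : X ⟶ Spec (CommRingCat.of A)) [IsProper f] {L₀ F L : X.Modules} (hL₀ : CohB1.IsAmple L₀)
    (hF : Coh.IsCoh F) (hL : PicF.IsInvertible L) :
    ∃ U : (Spec (CommRingCat.of A)).Opens, (U : Set (Spec (CommRingCat.of A))).Nonempty ∧ Good f F L U := by
  let T := Spec (CommRingCat.of A)
  let η : T := (⊥ : PrimeSpectrum A)
  have hη : ∀ t : T, η ⤳ t := fun t => (PrimeSpectrum.le_iff_specializes _ _).1 bot_le
  haveI : IsLocallyNoetherian X := LocallyOfFiniteType.isLocallyNoetherian f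
  obtain ⟨e₀, he₀, hlow⟩ : ∃ e₀ : ℕ, topologicalKrullDim ↥(f.fiber η) ≤ (e₀ : WithBot ℕ∞) ∧
      ∃ O : T.Opens, η ∈ O ∧ ∀ t ∈ O, ∀ e : ℕ, topologicalKrullDim ↥(f.fiber t) = e → e₀ ≤ e := by
    rcases dim_fiber_cases f η with h | ⟨e, he⟩
    · exact ⟨0, h 0, ⊤, trivial, fun t _ e _ => Nat.zero_le _⟩
    · obtain ⟨O, hO, hO'⟩ := GeomFib.exists_open_natCast_le_dim f η e he.ge
      refine ⟨e, he.le, O, hO, fun t ht e' he' => ?_⟩
      have h1 := hO' t ht (hη t)
      rw [he'] at h1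
      exact_mod_cast h1
  obtain ⟨O₁, hηO₁, hO₁⟩ := hlow
  obtain ⟨O₂, hηO₂, hO₂⟩ := GeomFib.exists_open_dim_le f η e₀ he₀
  have hchain : NoChain f η F (e₀ + 1) := by
    intro c hc hcc
    let c' : Fin (e₀ + 1 + 1) → f.fiber η := fun i => (f.fiberHomeo η).symm ⟨c i, (hc i).2⟩
    have h := Intersect.le_dim_of_chain (n := e₀ + 1) c' fun i j hij => ⟨?_, fun e => (hcc i j hij).2
      (congrArg Subtype.val ((f.fiberHomeo η).symm.injective e))⟩
    · exact absurd (show e₀ + 1 ≤ e₀ by exact_mod_cast h.trans he₀) (by omega)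
    · exact ((subtype_specializes_iff _ _).2 (hcc i j hij).1).map (f.fiberHomeo η).symm.continuous
  obtain ⟨U, C, hηU, hU⟩ := bounded_all f hη hL₀ (e₀ + 1) F hF hchain L hL (e₀ + 1)
  refine ⟨U ⊓ (O₁ ⊓ O₂), ⟨η, hηU, hηO₁, hηO₂⟩, C * ((e₀ + 1) * 2 ^ e₀), ?_⟩
  intro t ht e he m hm i
  have hv : VanishAbove f t (e₀ + 1) := fun G hG p hp =>
    W7Gen.subsingleton_fiberH_of_dim f hG e₀ t (hO₂ t ht.2.2 (hη t)) p hp
  by_cases hi : i < e₀ + 1
  · calc CohIII.fiberRank f (CohB1.tensorMod F (CohB1.tensorPow L m)) i t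
        ≤ hsum f (CohB1.tensorMod F (CohB1.tensorPow L m)) t (e₀ + 1) :=
          Finset.single_le_sum (f := fun j => CohIII.fiberRank f (CohB1.tensorMod F (CohB1.tensorPow L m)) j t)
            (fun j _ => Nat.zero_le _) (Finset.mem_range.2 hi)
      _ ≤ C * ((e₀ + 1) * (m + 1) ^ (e₀ + 1 - 1)) := hU t ht.1 hv m
      _ ≤ C * ((e₀ + 1) * (2 ^ e₀ * m ^ e)) := by
        refine Nat.mul_le_mul_left _ (Nat.mul_le_mul_left _ ?_)
        rw [Nat.add_sub_cancel]
        calc (m + 1) ^ e₀ ≤ (2 * m) ^ e₀ := Nat.pow_le_pow_left (by omega) _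
          _ = 2 ^ e₀ * m ^ e₀ := mul_pow _ _ _
          _ ≤ _ := Nat.mul_le_mul_left _ (Nat.pow_le_pow_right hm (hO₁ t ht.2.1 e he))
      _ = _ := by ring
  · haveI := hv (CohB1.tensorMod F (CohB1.tensorPow L m))
      (CohFinite.isCoh_tensor hF (TMul.isInvertible_tensorPow hL m)).1 i (by omega)
    rw [CohIII.fiberRank, Module.finrank_zero_of_subsingleton]
    exact Nat.zero_le _

variable {f}

theorem good_union {F L : X.Modules} {Z₁ Z₂ : Set S} (h₁ : Good f F L Z₁) (h₂ : Good f F L Z₂) :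
    Good f F L (Z₁ ∪ Z₂) := by
  obtain ⟨C₁, h₁⟩ := h₁
  obtain ⟨C₂, h₂⟩ := h₂
  refine ⟨C₁ + C₂, fun t ht e he m hm i => ?_⟩
  rcases ht with ht | ht
  · exact (h₁ t ht e he m hm i).trans (Nat.mul_le_mul_right _ (Nat.le_add_right _ _))
  · exact (h₂ t ht e he m hm i).trans (Nat.mul_le_mul_right _ (Nat.le_add_left _ _))

theorem good_mono {F L : X.Modules} {Z₁ Z₂ : Set S} (h : Z₁ ⊆ Z₂) (h₂ : Good f F L Z₂) : Good f F L Z₁ := by
  obtain ⟨C, h₂⟩ := h₂
  exact ⟨C, fun t ht => h₂ t (h ht)⟩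

theorem good_image [IsProper f] {X' S' : Scheme.{u}} {f' : X' ⟶ S'} {p : X' ⟶ X} {g : S' ⟶ S}
    (sq : IsPullback p f' f g) {F L : X.Modules} (hF : Coh.IsQCoh F) (hL : PicF.IsInvertible L) {Z : Set S'}
    (h : Good f' ((Scheme.Modules.pullback p).obj F) ((Scheme.Modules.pullback p).obj L) Z) :
    Good f F L (g.base '' Z) := by
  obtain ⟨C, hC⟩ := h
  refine ⟨C, ?_⟩
  rintro _ ⟨z, hz, rfl⟩ e he m hm i
  have h1 := hC z hz e ((DimField.dim_fiber_eq_of_isPullback sq z).trans he) m hm i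
  obtain ⟨a⟩ := TMul.nonempty_pullPowIso p L m
  obtain ⟨b⟩ := TMul.nonempty_pullTensorIso p F (CohB1.tensorPow L m)
  refine le_trans (le_of_eq ?_) h1
  exact ((HilbFib.betti_of_isPullback sq _
    (TMul.isQCoh_tensor (TMul.isInvertible_tensorPow hL m) (hF := hF)) z i).symm.trans
      (HilbFib.betti_congr f' ((PicGrp.tensorModIso (Iso.refl _) a ≪≫ b)) z i).symm)

/-- The bound on the whole base. -/
theorem good_univ [IsNoetherian S] [IsProper f] {LT F L : X.Modules} (hLT : RelAmple.IsRelAmple f LT)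
    (hF : Coh.IsCoh F) (hL : PicF.IsInvertible L) : Good f F L Set.univ := by
  suffices H : ∀ Z : Closeds S, Good f F L Z by simpa using H ⊤
  intro Z
  induction Z using WellFoundedLT.induction with
  | ind Z ih =>
    rcases (Z : Set S).eq_empty_or_nonempty with h0 | hne
    · exact ⟨0, fun t ht => by simp [h0] at ht⟩
    by_cases hirr : IsIrreducible (Z : Set S)
    swap
    · obtain ⟨Z₁, Z₂, h₁, h₂, hle⟩ : ∃ Z₁ Z₂ : Closeds S, Z₁ < Z ∧ Z₂ < Z ∧ (Z : Set S) ⊆ Z₁ ∪ Z₂ := by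
        have hpi : ¬ IsPreirreducible (Z : Set S) := fun h => hirr ⟨hne, h⟩
        rw [isPreirreducible_iff_isClosed_union_isClosed] at hpi
        push Not at hpi
        obtain ⟨z₁, z₂, hz₁, hz₂, hsub, hn₁, hn₂⟩ := hpi
        exact ⟨Z ⊓ ⟨z₁, hz₁⟩, Z ⊓ ⟨z₂, hz₂⟩, inf_lt_left.2 hn₁, inf_lt_left.2 hn₂,
          fun x hx => (hsub hx).imp (fun h => ⟨hx, h⟩) (fun h => ⟨hx, h⟩)⟩
      exact good_mono hle (good_union (ih _ h₁) (ih _ h₂))
    let z := hirr.genericPoint
    have hz : closure {z} = (Z : Set S) := hirr.isGenericPoint_genericPoint Z.2 |>.def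
    obtain ⟨V, hV, hzV, -⟩ := exists_isAffineOpen_mem_and_subset (X := S) (x := z) (U := ⊤) trivial
    let 𝔭 := (hV.primeIdealOf ⟨z, hzV⟩).asIdeal
    haveI : IsNoetherianRing Γ(S, V) := IsLocallyNoetherian.component_noetherian ⟨V, hV⟩
    let A := Γ(S, V) ⧸ 𝔭
    haveI : IsNoetherianRing A := inferInstance
    haveI : IsDomain A := Ideal.Quotient.isDomain 𝔭
    let g₁ : Spec (CommRingCat.of A) ⟶ Spec Γ(S, V) := Spec.map (CommRingCat.ofHom (Ideal.Quotient.mk 𝔭))
    haveI : IsClosedImmersion g₁ := IsClosedImmersion.spec_of_surjective _ Ideal.Quotient.mk_surjective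
    let f₁ := pullback.snd f hV.fromSpec
    let f₂ := pullback.snd f₁ g₁
    let p := pullback.fst f₁ g₁
    haveI : IsClosedImmersion p := MorphismProperty.pullback_fst _ _ inferInstance
    haveI : IsProper f₁ := MorphismProperty.pullback_snd _ _ ‹_›
    haveI : IsProper f₂ := MorphismProperty.pullback_snd _ _ ‹_›
    haveI : CompactSpace ↥(pullback f₁ g₁) := QuasiCompact.compactSpace_of_compactSpace f₂
    have sq : IsPullback (p ≫ pullback.fst f hV.fromSpec) f₂ f (g₁ ≫ hV.fromSpec) :=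
      (IsPullback.of_hasPullback f₁ g₁).paste_horiz (IsPullback.of_hasPullback f hV.fromSpec)
    have hamp := TMul.isAmple_pullback p p.isEmbedding.isInducing (HilbFib.isAmple_pullback_fst hLT hV)
    obtain ⟨U, ⟨u, hu⟩, hU⟩ := exists_open_good_integral f₂ hamp
      (QC.isCoh_pullback (p ≫ pullback.fst f hV.fromSpec) hF)
      (PicLoc.isInvertible_pullback (p ≫ pullback.fst f hV.fromSpec) hL)
    have hgood := good_image sq hF.1 hL hU
    let g := g₁ ≫ hV.fromSpec
    have hrange : Set.range g.base = (V : Set S) ∩ Z := by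
      rw [← hz]
      ext s
      constructor
      · rintro ⟨a, rfl⟩
        refine ⟨hV.range_fromSpec.le ⟨g₁.base a, rfl⟩, specializes_iff_mem_closure.1 ?_⟩
        rw [show z = hV.fromSpec (hV.primeIdealOf ⟨z, hzV⟩) from (hV.fromSpec_primeIdealOf ⟨z, hzV⟩).symm,
          Scheme.Hom.comp_apply]
        refine Specializes.map ?_ hV.fromSpec.continuous
        refine (PrimeSpectrum.le_iff_specializes _ _).1 ?_
        show 𝔭 ≤ a.asIdeal.comap (Ideal.Quotient.mk 𝔭)
        intro x hx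
        show Ideal.Quotient.mk 𝔭 x ∈ a.asIdeal
        rw [Ideal.Quotient.eq_zero_iff_mem.2 hx]
        exact zero_mem _
      · rintro ⟨hsV, hs⟩
        obtain ⟨q, rfl⟩ : ∃ q, hV.fromSpec q = s := ⟨_, hV.fromSpec_primeIdealOf ⟨s, hsV⟩⟩
        have hsp : hV.primeIdealOf ⟨z, hzV⟩ ⤳ q := by
          refine hV.fromSpec.isOpenEmbedding.isInducing.specializes_iff.1 ?_
          rw [hV.fromSpec_primeIdealOf]
          exact specializes_iff_mem_closure.2 hs
        obtain ⟨a, ha⟩ : ∃ a, g₁.base a = q := by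
          show q ∈ Set.range (PrimeSpectrum.comap (Ideal.Quotient.mk 𝔭))
          rw [range_comap_of_surjective _ _ Ideal.Quotient.mk_surjective, Ideal.mk_ker]
          exact (PrimeSpectrum.le_iff_specializes _ _).2 hsp
        exact ⟨a, by rw [Scheme.Hom.comp_apply]; exact congrArg hV.fromSpec.base ha⟩
    obtain ⟨W, hW, hWU⟩ := g.isEmbedding.isInducing.isOpen_iff.1 U.2
    let Z' : Closeds S := Z ⊓ ⟨(W ∩ V)ᶜ, (hW.inter V.2).isClosed_compl⟩
    have hlt : Z' < Z := by
      refine inf_lt_left.2 fun hle => ?_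
      have huW : g.base u ∈ W := hWU.ge hu
      have h2 := hrange.le ⟨u, rfl⟩
      exact (hle h2.2) ⟨huW, h2.1⟩
    refine good_mono (fun s hs => ?_) (good_union (ih Z' hlt) hgood)
    by_cases hsW : s ∈ W ∩ (V : Set S)
    · right
      obtain ⟨a, rfl⟩ := hrange.ge ⟨hsW.2, hs⟩
      exact ⟨a, hWU.le hsW.1, rfl⟩
    · exact Or.inl ⟨hs, hsW⟩

end Groth.Agent.CohBound
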